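import Cfsg.Agent.UD.SpC
import Cfsg.Agent.UD.SpW
import Cfsg.Agent.UD.SpL
import Cfsg.Agent.UD.SpN
import Cfsg.Agent.H44.Subnormal

set_option autoImplicit false
set_option linter.unusedSectionVars false

namespace Cfsg.Agent.UD

open Cfsg Subgroup H49 U4F
open U5F (Bar σ σσ)
open GD (Cx K0 In Ac E2 cjh Sp Sw Pr Op)
open scoped commutatorElement

variable {K : Type} [Field K] [Bar K] [CharP K 2]
variable {Λ : Type} [Group Λ] [Finite Λ] [IsSimpleGroup Λ] {M : Md K Λ}
variable {G : Type*} [Group G] [Finite G] {ι i j : Λ →* G} {t g y a b c : G} {A P : Subgroup G}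
variable {S : Subgroup G} {x : US K}

local notation "z₁" => i (Md.u M x)
local notation "z₂" => j (Md.u M x)
local notation "z₀" => ι (Md.u M x)

local notation "𝐪" => Bar.q K

theorem SpZ.top (M : Md K Λ) (u : Λ) : u ∈ commutator Λ := by
  rw [commutator_def, M.perf]; exact mem_top u

/-- the first factor lies in the normal closure of the diagonal -/
theorem SpZ.mem_nc (M : Md K Λ) (h : Sp ι i j t) (u : Λ) : i u ∈ normalClosure (ι.range : Set G) := by
  have e : commutator Λ ≤ (normalClosure (ι.range : Set G)).comap i := by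
    rw [commutator_def, commutator_le]
    intro a _ b _
    have hb : ι b ∈ normalClosure (ι.range : Set G) := subset_normalClosure ⟨b, rfl⟩
    have h1 := mul_mem ((inferInstance : (normalClosure (ι.range : Set G)).Normal).conj_mem _ hb (i a)) (inv_mem hb)
    have h2 : i a * ι b * (i a)⁻¹ * (ι b)⁻¹ = i ⁅a, b⁆ := by
      rw [h.dg, commutatorElement_def, map_mul, map_mul, map_mul, map_inv, map_inv, mul_inv_rev, ← map_inv i a]
      simp only [mul_assoc]
      rw [← mul_assoc (j b), ← h.cm, mul_assoc, mul_inv_cancel_left]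
    rw [h2] at h1
    exact h1
  exact e (SpZ.top M u)

/-- no nontrivial element of the first factor is central in the normal closure -/
theorem SpZ.ncen (M : Md K Λ) (h : Sp ι i j t) {u : Λ}
    (e : ∀ y ∈ normalClosure (ι.range : Set G), y * i u = i u * y) : u = 1 := by
  have : u ∈ center Λ := mem_center_iff.2 fun v => h.ii (by rw [map_mul, map_mul]; exact e _ (SpZ.mem_nc M h v))
  rwa [M.cen_bot, mem_bot] at this

theorem sp_fin (M : Md K Λ) (h : Sp ι i j t) : ¬ IsQuasisimple ↥(normalClosure (ι.range : Set G)) := by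
  intro hq
  obtain ⟨S, x, h0⟩ := sp_sy0 M h
  have hs := h0.sy
  obtain ⟨H, n1, n2, n3, n4, n5, n6⟩ := hs.exH
  have XH : normalClosure (ι.range : Set G) ≤ H := by
    refine le_trans (normalClosure_le_normal ?_) n2
    rintro _ ⟨u, rfl⟩
    have : (commutator Λ).map ι ≤ commutator G := by
      rw [commutator_def, map_commutator, commutator_def]
      exact commutator_mono le_top le_top
    exact this ⟨u, SpZ.top M u, rfl⟩
  have z1 : M.u x ≠ 1 := fun e => h0.x1 (M.m0.inj (e.trans (map_one M.u).symm))
  have m1 := SpZ.mem_nc M h (M.u x)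
  have m2 := SpZ.mem_nc M h.swap (M.u x)
  rcases (H44.isQuasisimple_iff.1 hq).2.2
    (normalClosure {(⟨_, m2⟩ : normalClosure (ι.range : Set G))}) inferInstance with e | e
  · refine z1 (SpZ.ncen M h fun y hy => ?_)
    have : normalClosure {(⟨_, m2⟩ : normalClosure (ι.range : Set G))} ≤
        𝒞[(⟨_, m1⟩ : normalClosure (ι.range : Set G))] := by
      refine (closure_le _).2 fun w hw => ?_
      obtain ⟨v, hv, e'⟩ := Group.mem_conjugatesOfSet_iff.1 hw
      obtain ⟨k, rfl⟩ := isConj_iff.1 e'
      obtain rfl := Set.mem_singleton_iff.1 hv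
      have := hs.cmH n1 n3 n4 n5 n6 (one_mem H) (XH k.2)
      rw [one_mul, inv_one, mul_one] at this
      exact mem_cent1.2 (Subtype.ext this.symm.eq)
    exact congrArg Subtype.val (mem_cent1.1 (this (e ▸ mem_top (⟨y, hy⟩ : normalClosure (ι.range : Set G)))))
  · refine z1 (SpZ.ncen M h.swap fun y hy => ?_)
    exact congrArg Subtype.val (mem_center_iff.1 (e (subset_normalClosure rfl)) ⟨y, hy⟩)

end Cfsg.Agent.UD
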